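import Mathlib
import Cfsg.Prelude.Def_Local
import Cfsg.Prelude.Def_ChevE8

/-!
# `PSL₂(7)` and `PGL₂(7)` as permutation groups of the projective line (S5920): the interface

`P168 = PSL₂(7)` and `P336 = PGL₂(7)` act on `Fin 8 = P¹(F₇)`, `7 = ∞`.
`fixS ρ Y` : the vectors fixed by all elements of the group lying in the set `Y` of permutations.
-/

set_option autoImplicit false

namespace Cfsg.Agent.H942.L7

universe u

open Equiv

/-- `z ↦ z + 1` -/
def nn : Perm (Fin 8) := ⟨![1, 2, 3, 4, 5, 6, 0, 7], ![6, 0, 1, 2, 3, 4, 5, 7], by decide, by decide⟩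

/-- `z ↦ 3 z`, of order 6 -/
def g6 : Perm (Fin 8) := ⟨![0, 3, 6, 2, 5, 1, 4, 7], ![0, 5, 3, 1, 6, 4, 2, 7], by decide, by decide⟩

/-- `z ↦ -1/z` -/
def ww : Perm (Fin 8) := ⟨![7, 6, 3, 2, 5, 4, 1, 0], ![7, 6, 3, 2, 5, 4, 1, 0], by decide, by decide⟩

/-- `PSL₂(7)` -/
def P168 : Subgroup (Perm (Fin 8)) := Subgroup.closure {nn, g6 ^ 2, ww}

/-- `PGL₂(7)` -/
def P336 : Subgroup (Perm (Fin 8)) := Subgroup.closure {nn, g6, ww}

/-- elements of the two four-groups `V4a`, `V4b` and of the dihedral groups containing them -/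
def za : Perm (Fin 8) := ⟨![1, 0, 4, 7, 2, 6, 5, 3], ![1, 0, 4, 7, 2, 6, 5, 3], by decide, by decide⟩
def za' : Perm (Fin 8) := ⟨![2, 4, 0, 5, 1, 3, 7, 6], ![2, 4, 0, 5, 1, 3, 7, 6], by decide, by decide⟩
def ta : Perm (Fin 8) := ⟨![3, 7, 6, 0, 5, 4, 2, 1], ![3, 7, 6, 0, 5, 4, 2, 1], by decide, by decide⟩
def zb : Perm (Fin 8) := ⟨![3, 4, 7, 0, 1, 6, 5, 2], ![3, 4, 7, 0, 1, 6, 5, 2], by decide, by decide⟩
def zb' : Perm (Fin 8) := ⟨![5, 7, 4, 6, 2, 0, 3, 1], ![5, 7, 4, 6, 2, 0, 3, 1], by decide, by decide⟩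
def tb : Perm (Fin 8) := ⟨![1, 0, 3, 2, 6, 7, 4, 5], ![1, 0, 3, 2, 6, 7, 4, 5], by decide, by decide⟩

/-- four-group, normal in the `S₄` generated by it, `ta` and `g6 ^ 2` -/
def V4a : Set (Perm (Fin 8)) := {1, za, za', za * za'}
def V4b : Set (Perm (Fin 8)) := {1, zb, zb', zb * zb'}
/-- dihedral groups of order 8 -/
def D8a : Set (Perm (Fin 8)) := V4a ∪ {g | ∃ z ∈ V4a, g = z * ta}
def D8b : Set (Perm (Fin 8)) := V4b ∪ {g | ∃ z ∈ V4b, g = z * tb}
/-- the group of order 7 -/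
def U7 : Set (Perm (Fin 8)) := {g | ∃ i : ℕ, g = nn ^ i}
/-- the dihedral group of order 14 generated by `nn` and the outer involution `g6 ^ 3` -/
def D14 : Set (Perm (Fin 8)) := {g | ∃ i j : ℕ, g = nn ^ i * g6 ^ (3 * j)}

variable {V : Type*} [AddCommGroup V] [Module (ZMod 3) V]

/-- the vectors fixed by all elements of `P` in the set `Y` -/
def fixS {P : Subgroup (Perm (Fin 8))} (ρ : Representation (ZMod 3) ↥P V) (Y : Set (Perm (Fin 8))) :
    Submodule (ZMod 3) V where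
  carrier := {v | ∀ g : ↥P, (g : Perm (Fin 8)) ∈ Y → ρ g v = v}
  add_mem' := fun ha hb g hg => by rw [map_add, ha g hg, hb g hg]
  zero_mem' := fun g _ => map_zero _
  smul_mem' := fun c v hv g hg => by rw [map_smul, hv g hg]

/-- the vectors fixed by `P168` and inverted by the elements of `P` outside `P168` -/
def antS {P : Subgroup (Perm (Fin 8))} (ρ : Representation (ZMod 3) ↥P V) : Submodule (ZMod 3) V where
  carrier := {v | ∀ g : ↥P, ((g : Perm (Fin 8)) ∈ P168 → ρ g v = v) ∧ ((g : Perm (Fin 8)) ∉ P168 → ρ g v = - v)}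
  add_mem' := fun ha hb g => ⟨fun h => by rw [map_add, (ha g).1 h, (hb g).1 h],
    fun h => by rw [map_add, (ha g).2 h, (hb g).2 h, neg_add]⟩
  zero_mem' := fun g => ⟨fun _ => map_zero _, fun _ => by rw [map_zero, neg_zero]⟩
  smul_mem' := fun c v hv g => ⟨fun h => by rw [map_smul, (hv g).1 h],
    fun h => by rw [map_smul, (hv g).2 h, smul_neg]⟩

/-! ### the statements of the tasks (as propositions) -/

/-- Task REP-S: the dimension of the fixed space of `PSL₂(7)` in a self-dual module in characteristic 3. -/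
def RepS : Prop := ∀ (V : Type) [AddCommGroup V] [Module (ZMod 3) V] [Module.Finite (ZMod 3) V]
    (P : Subgroup (Perm (Fin 8))) (_ : P168 ≤ P) (ρ : Representation (ZMod 3) ↥P V)
    (B : LinearMap.BilinForm (ZMod 3) V) (_ : B.Nondegenerate) (_ : B.IsSymm)
    (_ : ∀ g v v', B (ρ g v) (ρ g v') = B v v'),
    3 * Module.finrank (ZMod 3) (fixS ρ D8a) + Module.finrank (ZMod 3) (fixS ρ U7) ≤
      Module.finrank (ZMod 3) (fixS ρ V4a) + Module.finrank (ZMod 3) (fixS ρ V4b) +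
        3 * Module.finrank (ZMod 3) (fixS ρ P168)

/-- Task REP-H: no module of `PGL₂(7)` with the following data. -/
def RepH : Prop := ∀ (V : Type) [AddCommGroup V] [Module (ZMod 3) V] [Module.Finite (ZMod 3) V]
    (ρ : Representation (ZMod 3) ↥P336 V)
    (B : LinearMap.BilinForm (ZMod 3) V) (_ : B.Nondegenerate) (_ : B.IsSymm)
    (_ : ∀ g v v', B (ρ g v) (ρ g v') = B v v')
    (_ : Module.finrank (ZMod 3) V = 248)
    (_ : Module.finrank (ZMod 3) (fixS ρ V4a) = 56) (_ : Module.finrank (ZMod 3) (fixS ρ V4b) = 56)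
    (_ : Module.finrank (ZMod 3) (fixS ρ D8a) = 26) (_ : Module.finrank (ZMod 3) (fixS ρ D8b) = 26)
    (_ : Module.finrank (ZMod 3) (fixS ρ U7) = 38)
    (_ : Module.finrank (ZMod 3) (fixS ρ D14) = 15 ∨ Module.finrank (ZMod 3) (fixS ρ D14) = 31)
    (b8 : ZMod 3) (_ : b8 = 0 ∨ b8 = 1)
    (_ : ∀ g : ↥P336, orderOf g = 2 → (g : Perm (Fin 8)) ∈ P168 → LinearMap.trace (ZMod 3) V (ρ g) = 1)
    (_ : ∀ g : ↥P336, orderOf g = 4 → LinearMap.trace (ZMod 3) V (ρ g) = 0)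
    (_ : ∀ g : ↥P336, orderOf g = 7 → LinearMap.trace (ZMod 3) V (ρ g) = 0)
    (_ : ∀ g : ↥P336, orderOf g = 8 → LinearMap.trace (ZMod 3) V (ρ g) = b8)
    (_ : Module.finrank (ZMod 3) (fixS ρ P336) ≤ 2)
    (_ : Module.finrank (ZMod 3) (antS ρ) ≤ 1) (_ : b8 = 1 → Module.finrank (ZMod 3) (antS ρ) = 0), False

/-- Task GRP: groups with generalized Fitting subgroup `PSL₂(7)`. -/
def Grp : Prop := ∀ (F : Type u) [Field F] [Fintype F] (_ : Fintype.card F = 7) (H : Type) [Group H] [Finite H]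
    (_ : Nonempty (↥(Cfsg.generalizedFittingSubgroup H) ≃* Matrix.ProjectiveSpecialLinearGroup (Fin 2) F)),
    Nonempty (H ≃* ↥P168) ∨ Nonempty (H ≃* ↥P336)

/-- Task FORM: the invariant form of the adjoint module of `E₈`. -/
def Form : Prop := ∀ (K : Type) [Field K], ∃ J : Matrix Cfsg.Lie.chevE8.Idx Cfsg.Lie.chevE8.Idx K,
    J.transpose = J ∧ IsUnit J.det ∧ ∀ g ∈ Cfsg.Lie.chevE8.group K,
      (g : Matrix Cfsg.Lie.chevE8.Idx Cfsg.Lie.chevE8.Idx K).transpose * J *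
        (g : Matrix Cfsg.Lie.chevE8.Idx Cfsg.Lie.chevE8.Idx K) = J

end Cfsg.Agent.H942.L7
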