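import Mathlib
import Cfsg.Agent.H942.E8Val

/-!
# Elements of order 7 of `E₈(3)`
-/

set_option autoImplicit false
set_option linter.unusedSectionVars false
set_option maxRecDepth 100000

namespace Cfsg.Agent.H942.L7

open Cfsg Cfsg.Lie Cfsg.Lie.ChevalleyDatum
open Cfsg.Agent.ChevalleyStructure Cfsg.Agent.ChevalleyStructure.CoxeterGeomTypes
open Cfsg.Agent.H942.E8Tab Cfsg.Agent.H942.E8Alc Cfsg.Agent.H942.ValsChar Cfsg.Agent.H942.E8Val
open Cfsg.Agent.H944.RootVals Cfsg.Agent.H944.Tab Cfsg.Agent.H944.Kac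
open Cfsg.Agent.H657 IsLocalRing Module

theorem check7 : allAlc th8 7 (fun Y => bif invB 7 3 R8 Y then decide (cnt 7 1 0 Y ∈ [15, 36, 120]) else true) =
    true := by
  decide +kernel

theorem gen7 : ∀ u : ZMod 7, u ≠ 0 → ∃ k < 6, u = (3 : ZMod 7) ^ k := by decide

/-- **Elements of order dividing 7.** -/
theorem val7 (V : ValuationSubring ℂ) [CharP (ResidueField V) 3] {G : Type*} [Group G]
    (F : G →* ↥(chevE8.group (ZMod 3))) {g : G} (hg : g ^ 7 = 1) (hne : F g ≠ 1) :
    ∃ t : ℤ, (t = 3 ∨ t = 52) ∧ (∀ d : ℕ, ¬ 7 ∣ d → bc 3 (adj V F) (g ^ d) = t) := by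
  have : Fact (Nat.Prime 7) := ⟨by norm_num⟩
  obtain ⟨Y, ξ, h⟩ := exists_spec (V := V) F (N := 7) (by norm_num) (by norm_num) hg
  have h1 := allAlc_spec th8 7 _ (by decide) check7 Y h.len h.alc
  have h2 : invB 7 3 R8 Y = true := invB_of (by norm_num) tab8 len8 h.frob
  rw [h2, cond_true, decide_eq_true_iff] at h1
  have hus : ∀ u : ZMod 7, u ≠ 0 → ms chevE8 8 (vecL 7 Y) = (ms chevE8 8 (vecL 7 Y)).map (fun a => u * a) := by
    intro u hu
    obtain ⟨k, -, hk⟩ := gen7 u hu
    rw [hk]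
    exact map_mul_pow h.frob k
  have hval : ∀ d : ℕ, ¬ 7 ∣ d → 6 * bc 3 (adj V F) (g ^ d) = 14 * (cnt 7 1 0 Y : ℂ) - 192 := by
    intro d hd
    have := bc_prime h hus hd
    push_cast at this
    linear_combination this
  have hcard := ord_prime h
  simp only [List.mem_cons, List.not_mem_nil, or_false] at h1
  rcases h1 with h1 | h1 | h1
  · refine ⟨3, by simp, fun d hd => ?_⟩
    have := hval d hd
    rw [h1] at this
    push_cast at this ⊢
    linear_combination this / 6
  · refine ⟨52, by simp, fun d hd => ?_⟩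
    have := hval d hd
    rw [h1] at this
    push_cast at this ⊢
    linear_combination this / 6
  · exact absurd (hcard.2 h1) hne

end Cfsg.Agent.H942.L7
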