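import Mathlib
import Cfsg.Agent.H942.L7.Iface
import Cfsg.Agent.H942.Common

/-!
# S5920: second interface file
-/

set_option autoImplicit false

namespace Cfsg.Agent.H942.L7

open Equiv Cfsg Cfsg.Lie Cfsg.Agent.H657 IsLocalRing Module
open Cfsg.Agent.H942.E8Alc

/-- an element of order 8 of `PGL₂(7)`; `y8 ^ 2` is an element of order 4 of `D8a` -/
def y8 : Perm (Fin 8) := ⟨![2, 4, 5, 0, 6, 7, 3, 1], ![3, 7, 0, 6, 1, 2, 4, 5], by decide, by decide⟩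

/-- Task CENT: orders of the groups and of some centralisers. -/
def Cent : Prop :=
  Nat.card ↥P168 = 168 ∧ Nat.card ↥P336 = 336 ∧ y8 ∈ P336 ∧ y8 ^ 2 ∈ P168 ∧ y8 ∉ P168 ∧
  (∀ c : ↥P168, (c : Perm (Fin 8)) = y8 ^ 2 → Nat.card ↥(Subgroup.centralizer {c}) ≤ 4) ∧
  (∀ c : ↥P336, (c : Perm (Fin 8)) = y8 ^ 2 → Nat.card ↥(Subgroup.centralizer {c}) ≤ 8) ∧
  (∀ c : ↥P336, (c : Perm (Fin 8)) = y8 → Nat.card ↥(Subgroup.centralizer {c}) ≤ 8)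

/-- Task CONJ: conjugacy of elements of the groups. -/
def Conj : Prop :=
  (∀ g ∈ P168, g ^ 2 = 1 → g ≠ 1 → ∃ h ∈ P168, h⁻¹ * g * h = za) ∧
  (∀ g ∈ P336, g ^ 4 = 1 → g ^ 2 ≠ 1 → ∃ h ∈ P168, h⁻¹ * g * h = y8 ^ 2) ∧
  (∀ g ∈ P336, g ^ 7 = 1 → g ≠ 1 → ∃ h ∈ P168, ∃ d : ℕ, ¬ 7 ∣ d ∧ h⁻¹ * g * h = nn ^ d) ∧
  (∀ g ∈ P336, g ^ 8 = 1 → g ^ 4 ≠ 1 → ∃ h ∈ P336, ∃ d : ℕ, ¬ 2 ∣ d ∧ h⁻¹ * g * h = y8 ^ d) ∧
  (∀ g ∈ P336, g ∉ P168 → g ^ 2 = 1 → ∃ h ∈ P336, h⁻¹ * g * h = g6 ^ 3)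

/-- the vectors fixed by the elements of a list, on the adjoint module of `E₈` over `F₃` -/
def fixL {Q : Type*} [Group Q] (F : Q →* ↥(chevE8.group (ZMod 3))) (L : List Q) :
    Submodule (ZMod 3) (chevE8.Idx → ZMod 3) where
  carrier := {v | ∀ g ∈ L, (((F g : ↥(chevE8.group (ZMod 3))) : GL chevE8.Idx (ZMod 3)) :
    Matrix chevE8.Idx chevE8.Idx (ZMod 3)).mulVec v = v}
  add_mem' := fun ha hb g hg => by rw [Matrix.mulVec_add, ha g hg, hb g hg]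
  zero_mem' := fun g _ => Matrix.mulVec_zero _
  smul_mem' := fun c v hv g hg => by rw [Matrix.mulVec_smul, hv g hg]

/-- Task DIM: the dimension over `F₃` of the fixed space of a `3'`-group in terms of the Brauer character
(`Cfsg.Agent.H597.BrInv.C` is the statement over the residue field; `Cfsg.Agent.H953.rank_map`). -/
def Dim : Prop := ∀ (M : Ideal AlgInt) (V : ValuationSubring ℂ) (_ : IsPModular 3 M) (_ : Above M V)
  [CharP (ResidueField V) 3] (Q : Type) [Group Q] (F : Q →* ↥(chevE8.group (ZMod 3))) (L : List Q) (_ : L.Nodup)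
  (_ : (1 : Q) ∈ L) (_ : ∀ a ∈ L, ∀ b ∈ L, a * b ∈ L) (_ : L.length.Coprime 3),
  (L.map fun g => bc 3 (adj V F) g).sum = (L.length : ℂ) * (finrank (ZMod 3) ↥(fixL F L) : ℂ)

/-- Task NOFIX: the adjoint module of `E₈(3)` has no fixed vectors, and the group is simple. -/
def NoFix : Prop := IsSimpleGroup ↥(chevE8.group (ZMod 3)) ∧ (∀ v : chevE8.Idx → ZMod 3,
  (∀ g ∈ chevE8.group (ZMod 3), (g : Matrix chevE8.Idx chevE8.Idx (ZMod 3)).mulVec v = v) → v = 0)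

end Cfsg.Agent.H942.L7
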